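import Groth.Agent.S14520

/-!
# The Euler characteristic of a rational divisor
-/

set_option autoImplicit false
set_option linter.style.haveILetI false
set_option maxHeartbeats 1000000
set_option backward.isDefEq.respectTransparency false
set_option backward.isDefEq.respectTransparency.types false

universe u

open CategoryTheory CategoryTheory.Limits AlgebraicGeometry TopologicalSpace Opposite
open Groth.Agent Groth.Agent.NumConn10
open Groth.Agent.HypSq10 (chi)

namespace Groth.Agent.BlowCanon10

noncomputable local instance instLawBC (Y : Scheme.{u}) : PicGrp.Law Y := M2.law Y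

theorem chi_exceptional {k : Type u} [Field k] [IsAlgClosed k] {X' : Scheme.{u}} [X'.Over (Spec (CommRingCat.of k))]
    [IsProper (X' ↘ Spec (CommRingCat.of k))] {E : X'.IdealSheafData} [IsIntegral E.subscheme]
    (hdE : topologicalKrullDim E.subscheme = 1) (hEc : BlowUp.IsEffCartierIdeal E) {K₀ : Type u} [Field K₀]
    (e : CohB1.ProjSpace 1 K₀ ≅ E.subscheme) : chi k (1 : PicLoc.PicSet X') - chi k (icl hEc) = 1 := by
  haveI : IsNoetherian X' := CohFound.isNoetherian_of_isProper (X' ↘ Spec (CommRingCat.of k))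
  letI : E.subscheme.Over (Spec (CommRingCat.of k)) := ⟨E.subschemeι ≫ (X' ↘ Spec (CommRingCat.of k))⟩
  haveI : IsProper (E.subscheme ↘ Spec (CommRingCat.of k)) :=
    inferInstanceAs (IsProper (E.subschemeι ≫ (X' ↘ Spec (CommRingCat.of k))))
  have hq : Curv2.euler k E.subscheme (Coh.structureModule E.subscheme) =
      chi k (1 : PicLoc.PicSet X') - chi k (icl hEc) := by
    rw [← AmpleFin18.euler_push E.subschemeι rfl _ (M1.isQCoh_structureModule _)]
    exact NormalRR10.defect.chi_quot E hEc
  rw [← hq, Groth.Agent.S14520.euler_curve k E.subscheme hdE.le]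
  suffices hg : Curv2.genus k E.subscheme = 0 by rw [hg]; simp
  let K := K₀
  letI : (CohB1.ProjSpace 1 K).Over (Spec (CommRingCat.of k)) :=
    ⟨e.hom ≫ E.subschemeι ≫ (X' ↘ Spec (CommRingCat.of k))⟩
  rw [← CurveCoh17.genus_eq_of_iso (k := k) e.hom rfl]
  let a : CohB1.ProjSpace 1 K ⟶ Spec (CommRingCat.of k) := e.hom ≫ E.subschemeι ≫ (X' ↘ Spec (CommRingCat.of k))
  let b : CohB1.ProjSpace 1 K ⟶ Spec (CommRingCat.of K) := CohB1.ProjSpace.toSpec 1 K
  haveI : IsProper a := inferInstance
  haveI : IsProper b := ProjSpace.isProper_toSpec 1 K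
  have hb : Function.Bijective (Coh.toGlobal b : K →+* Γ(CohB1.ProjSpace 1 K, ⊤)) :=
    Groth.Agent.S14520.bijective_toGlobal_P1 K
  have hF : IsField Γ(CohB1.ProjSpace 1 K, ⊤) :=
    (RingEquiv.ofBijective (Coh.toGlobal b : K →+* Γ(CohB1.ProjSpace 1 K, ⊤)) hb).symm.toMulEquiv.isField
      (Field.toIsField K)
  obtain ⟨w, -, -, hM⟩ := ArInter.finrank_HH_compare k K a b hF (HensProper6.finite_toGlobal a) hb
  refine (hM _ 1).trans ?_
  exact (congrArg (fun n => w * n) (CurveCoh17.genus_P1 (k := K))).trans (mul_zero w)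

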